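import Mathlib
import Cfsg.Agent.W3.SData
import Cfsg.Agent.Rec.UQ
import Cfsg.Agent.Spor.ESSym

/-!
Groups whose Sylow 2-subgroup is that of `U₅(2)`: the letters, the listed subgroups, and facts inside the Sylow
subgroup.
-/

set_option autoImplicit false
set_option maxRecDepth 100000
set_option synthInstance.maxSize 100000
set_option synthInstance.maxHeartbeats 1000000

namespace Cfsg.Agent.W3.S

open Cfsg.Agent.Spor Cfsg.Agent.Rec Cfsg.Agent.Inv.Fz Subgroup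

universe u v

variable {G : Type u} [Group G]

/-- Letters for a Sylow 2-subgroup. -/
structure St (G : Type u) [Group G] where
  (z t u w b1 b2 y1 y2 c1 c2 : G)
  C : Cod Ar4 G
  rep : C.RepL cT [z, t, u, w, b1, b2, y1, y2, c1, c2]
  syl : IsSylIn 2 (clos [b1, b2, u, w]) ⊤

theorem card_four {C : Cod Ar4 G} {z t u w b1 b2 y1 y2 c1 c2 : G}
    (h : C.RepL cT [z, t, u, w, b1, b2, y1, y2, c1, c2]) :
    C.Lists T_t.dom (clos [b1, b2, u, w]) ∧ Nat.card (clos [b1, b2, u, w]) = 1024 := (h.pick [4, 5, 2, 3]).gen T_ok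

theorem mem_four {C : Cod Ar4 G} {z t u w b1 b2 y1 y2 c1 c2 : G}
    (h : C.RepL cT [z, t, u, w, b1, b2, y1, y2, c1, c2]) (i : ℕ) :
    nth 1 [z, t, u, w, b1, b2, y1, y2, c1, c2] i ∈ clos [b1, b2, u, w] :=
  have h1 : ∀ y ∈ {y | y ∈ [z, t, u, w, b1, b2, y1, y2, c1, c2]}, y ∈ clos [b1, b2, u, w] :=
    (h.lists.cons ((card_four h).1.cons Cod.listsL_nil)).decide h (by decide +kernel)
  clos_le.2 h1 (nth_mem_clos _ i)

namespace St

variable (s : St G)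

/-- The letters. -/
abbrev e : List G := [s.z, s.t, s.u, s.w, s.b1, s.b2, s.y1, s.y2, s.c1, s.c2]
/-- The Sylow 2-subgroup. -/
def T : Subgroup G := clos [s.b1, s.b2, s.u, s.w]
/-- The extraspecial subgroup of order 128. -/
def Q : Subgroup G := clos [s.b1, s.b2, s.y1, s.y2, s.c1, s.c2]
/-- The centraliser of `A`. -/
def R : Subgroup G := clos [s.u, s.w, s.y1, s.y2]
/-- The elementary abelian subgroup of order 16. -/
def A : Subgroup G := clos [s.z, s.t, s.c1, s.c2]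
/-- The centraliser of `t` in `Q`. -/
def Y : Subgroup G := clos [s.y1, s.y2, s.c1, s.c2]
/-- `A ⊓ Q`. -/
def U : Subgroup G := clos [s.z, s.c1, s.c2]
/-- The quaternion complement. -/
def X : Subgroup G := clos [s.u, s.w]
/-- The five points. -/
def L : Set G := {x | x ∈ [s.z, s.t, s.b1 * s.t * s.b1, s.b2 * s.t * s.b2, s.b1 * s.b2 * s.t * s.b2 * s.b1]}

theorem genT : s.C.Lists T_t.dom s.T ∧ Nat.card s.T = 1024 := card_four s.rep
theorem genQ : s.C.Lists Q_t.dom s.Q ∧ Nat.card s.Q = 128 := (s.rep.pick [4, 5, 6, 7, 8, 9]).gen Q_ok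
theorem genR : s.C.Lists R_t.dom s.R ∧ Nat.card s.R = 256 := (s.rep.pick [2, 3, 6, 7]).gen R_ok
theorem genA : s.C.Lists A_t.dom s.A ∧ Nat.card s.A = 16 := (s.rep.pick [0, 1, 8, 9]).gen A_ok
theorem genY : s.C.Lists Y_t.dom s.Y ∧ Nat.card s.Y = 32 := (s.rep.pick [6, 7, 8, 9]).gen Y_ok
theorem genU : s.C.Lists U_t.dom s.U ∧ Nat.card s.U = 8 := (s.rep.pick [0, 8, 9]).gen U_ok
theorem genX : s.C.Lists X_t.dom s.X ∧ Nat.card s.X = 8 := (s.rep.pick [2, 3]).gen X_ok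
theorem genL : s.C.Lists (listDom cL) s.L :=
  Cod.RepL.lists <| (s.rep.nth 0).cons <| (s.rep.nth 1).cons <| (s.rep.term _ (by decide +kernel)).cons <|
    (s.rep.term _ (by decide +kernel)).cons <| (s.rep.term _ (by decide +kernel)).cons Cod.repL_nil

/-- The listed sets; use `s.lists.decide s.rep (by decide +kernel)`. -/
theorem lists : s.C.ListsL [T_t.dom, Q_t.dom, R_t.dom, A_t.dom, Y_t.dom, U_t.dom, X_t.dom, listDom cL]
    [s.T, s.Q, s.R, s.A, s.Y, s.U, s.X, s.L] :=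
  s.genT.1.cons <| s.genQ.1.cons <| s.genR.1.cons <| s.genA.1.cons <| s.genY.1.cons <| s.genU.1.cons <|
    s.genX.1.cons <| s.genL.cons Cod.listsL_nil

theorem T_syl : IsSylIn 2 s.T ⊤ := s.syl
theorem pg : IsPGroup 2 s.T := s.syl.isPGroup
theorem mem_e (i : ℕ) : nth 1 s.e i ∈ s.T := mem_four s.rep i

section

variable {H : Type v} [Group H] (ψ : s.T →* H) (hψ : Function.Injective ψ)

theorem rep_map : (s.C.map s.T ψ hψ).RepL cT [ψ ⟨_, s.mem_e 0⟩, ψ ⟨_, s.mem_e 1⟩, ψ ⟨_, s.mem_e 2⟩,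
    ψ ⟨_, s.mem_e 3⟩, ψ ⟨_, s.mem_e 4⟩, ψ ⟨_, s.mem_e 5⟩, ψ ⟨_, s.mem_e 6⟩, ψ ⟨_, s.mem_e 7⟩, ψ ⟨_, s.mem_e 8⟩,
    ψ ⟨_, s.mem_e 9⟩] :=
  s.rep.embed (by rfl) s.mem_e ψ hψ fun
    | 0 | 1 | 2 | 3 | 4 | 5 | 6 | 7 | 8 | 9 => rfl
    | _ + 10 => map_one ψ

/-- The letters in another group. -/
noncomputable def map [Finite H] {S : Subgroup H} (hS : IsSylIn 2 S ⊤) (hc : Nat.card S ≤ 1024) : St H :=
  ⟨_, _, _, _, _, _, _, _, _, _, _, s.rep_map ψ hψ, hS.of_card_ge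
    (IsPGroup.of_card (n := 10) (card_four (s.rep_map ψ hψ)).2) le_top (hc.trans (card_four (s.rep_map ψ hψ)).2.ge)⟩

end

theorem aes : AES s.Q s.z := by
  have h : s.z ∈ s.Q ∧ s.z ≠ 1 ∧ s.z * s.z = 1 ∧ (∀ q ∈ s.Q, s.z * q = q * s.z) ∧
      (∀ x ∈ s.Q, ∀ y ∈ s.Q, x * y = y * x ∨ x * y = s.z * (y * x)) ∧ (∀ x ∈ s.Q, x * x = 1 ∨ x * x = s.z) ∧
      ∀ x ∈ s.Q, x * x = 1 → (∀ q ∈ s.Q, x * q = q * x) → x = 1 ∨ x = s.z := s.lists.decide s.rep (by decide +kernel)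
  exact ⟨h.1, h.2.1, h.2.2.1, h.2.2.2.1, h.2.2.2.2.1, h.2.2.2.2.2.1, h.2.2.2.2.2.2⟩

theorem z_sq : s.z * s.z = 1 := s.aes.z_sq
theorem z_ne : s.z ≠ 1 := s.aes.z_ne
theorem ord_z : orderOf s.z = 2 := s.aes.orderOf_z
theorem t_sq : s.t * s.t = 1 := s.lists.decide s.rep (by decide +kernel)
theorem t_ne : s.t ≠ s.z := s.lists.decide s.rep (by decide +kernel)
theorem t_notMem : s.t ∉ s.Q := s.lists.decide s.rep (by decide +kernel)
theorem z_comm : ∀ x ∈ s.T, x * s.z = s.z * x := s.lists.decide s.rep (by decide +kernel)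
theorem T_le : s.T ≤ centralizer {s.z} := fun x hx => mem_cen.2 (s.z_comm x hx)
theorem Q_le : s.Q ≤ s.T := s.lists.decide s.rep (by decide +kernel)
theorem R_le : s.R ≤ s.T := s.lists.decide s.rep (by decide +kernel)
theorem A_leR : s.A ≤ s.R := s.lists.decide s.rep (by decide +kernel)
theorem A_le : s.A ≤ s.T := s.A_leR.trans s.R_le
theorem Y_le : s.Y ≤ s.Q := s.lists.decide s.rep (by decide +kernel)
theorem U_leA : s.U ≤ s.A := s.lists.decide s.rep (by decide +kernel)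
theorem U_leY : s.U ≤ s.Y := s.lists.decide s.rep (by decide +kernel)
theorem L_le : ∀ l ∈ s.L, l ∈ s.A := s.lists.decide s.rep (by decide +kernel)
theorem z_memA : s.z ∈ s.A := mem_clos (by simp)
theorem t_memA : s.t ∈ s.A := mem_clos (by simp)
theorem z_memT : s.z ∈ s.T := s.mem_e 0
theorem t_memT : s.t ∈ s.T := s.mem_e 1
theorem A_sq : ∀ a ∈ s.A, a * a = 1 := s.lists.decide s.rep (by decide +kernel)
theorem A_comm : ∀ a ∈ s.A, ∀ r ∈ s.R, r * a = a * r := fun a ha r hr => by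
  have h : ∀ a ∈ s.A, a * s.u = s.u * a ∧ a * s.w = s.w * a ∧ a * s.y1 = s.y1 * a ∧ a * s.y2 = s.y2 * a :=
    s.lists.decide s.rep (by decide +kernel)
  exact (commute_clos (by simpa using h a ha) r hr).symm
theorem cen_Q : ∀ x ∈ s.T, (∀ y ∈ s.Q, y * x = x * y) → x = 1 ∨ x = s.z := s.lists.decide s.rep (by decide +kernel)
theorem cen_A : ∀ x ∈ s.T, (∀ y ∈ s.A, y * x = x * y) → x ∈ s.R := s.lists.decide s.rep (by decide +kernel)
theorem inv_cases : ∀ x ∈ s.T, x * x = 1 → x ∈ s.A ∨ x ∈ s.Q := s.lists.decide s.rep (by decide +kernel)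
theorem mem_Y : ∀ x ∈ s.Q, (x ∈ s.Y ↔ x * s.t = s.t * x) := s.lists.decide s.rep (by decide +kernel)
theorem L_cases : ∀ l ∈ s.L, l = s.z ∨ (l ∉ s.Q ∧ ∃ q ∈ s.Q, q * s.t * q⁻¹ = l) :=
  s.lists.decide s.rep (by decide +kernel)
theorem A_cases : ∀ x ∈ s.A, x = 1 ∨ x ∈ s.L ∨ ∃ l ∈ s.L, ∃ m ∈ s.L, l ≠ m ∧ x = l * m :=
  s.lists.decide s.rep (by decide +kernel)
theorem L_pair : ∀ a ∈ s.L, ∀ b ∈ s.L, a ≠ b → ∀ c ∈ s.L, ∀ d ∈ s.L, a * b = c * d → c = a ∨ c = b :=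
  s.lists.decide s.rep (by decide +kernel)

variable [Finite G]

theorem norm_Q : s.T ≤ normalizer (s.Q : Set G) := by
  have h : s.C.RepL _ [s.b1, s.b2, s.u, s.w] := s.rep.pick [4, 5, 2, 3]
  have h1 : ∀ x ∈ {x | x ∈ [s.b1, s.b2, s.u, s.w]}, ∀ r ∈ s.Q, x * r * x⁻¹ ∈ s.Q :=
    (h.lists.cons s.lists).decide s.rep (by decide +kernel)
  exact clos_le.2 fun x hx => mem_normalizer_of_conj_mem (h1 x hx)

theorem norm_A : s.T ≤ normalizer (s.A : Set G) := by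
  have h : s.C.RepL _ [s.b1, s.b2, s.u, s.w] := s.rep.pick [4, 5, 2, 3]
  have h1 : ∀ x ∈ {x | x ∈ [s.b1, s.b2, s.u, s.w]}, ∀ r ∈ s.A, x * r * x⁻¹ ∈ s.A :=
    (h.lists.cons s.lists).decide s.rep (by decide +kernel)
  exact clos_le.2 fun x hx => mem_normalizer_of_conj_mem (h1 x hx)

omit [Finite G] in
/-- The stabiliser of a vector of `Q / ⟨z⟩`. -/
theorem stab {y v : G} (hy : y ∈ s.Q) (hA : y ∉ s.A) (hv : v ∈ s.T) (h : Eqv s.z (v * y * v⁻¹) y) :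
    v ∈ s.Q ∨ (v * s.t ∈ s.Q ∧ y ∈ s.Y) := by
  have h1 : (∀ v ∈ s.T, ∃ x ∈ s.X, v * x ∈ s.Q) ∧ s.X ≤ s.T ∧ ∀ y ∈ s.Q, y ∉ s.A → ∀ x ∈ s.X,
      (x * y * x⁻¹ = y ∨ x * y * x⁻¹ = s.z * y) → x = 1 ∨ (x = s.t ∧ y ∈ s.Y) := s.lists.decide s.rep (by decide +kernel)
  obtain ⟨x, hx, h2⟩ := h1.1 v hv
  have h3 : Eqv s.z (x⁻¹ * y * x⁻¹⁻¹) y := by
    have h4 := ((h.conj (s.aes.z_comm _ (inv_mem h2))).trans s.z_sq (s.aes.eqv_conj (inv_mem h2) hy))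
    rwa [show (v * x)⁻¹ * (v * y * v⁻¹) * (v * x)⁻¹⁻¹ = x⁻¹ * y * x⁻¹⁻¹ by group] at h4
  rcases h1.2.2 y hy hA _ (inv_mem hx) h3 with e | ⟨e, h4⟩
  · rw [inv_eq_one.1 e, mul_one] at h2
    exact .inl h2
  · rw [inv_eq_iff_eq_inv.1 e, inv_eq_of_mul_eq_one_right s.t_sq] at h2
    exact .inr ⟨h2, h4⟩

end St

end Cfsg.Agent.W3.S
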