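import Mathlib
import Cfsg.Agent.Cl.QuadExtra
import Cfsg.Agent.Cl.OrthStd

/-! The two orthogonal spaces of dimension six over the field with two elements, with vectors coded by numbers:
bits `0,1,2` are `u0,u1,u2` and bits `3,4,5` are `v0,v1,v2`. -/

set_option autoImplicit false
set_option maxRecDepth 100000
set_option linter.unusedVariables false

namespace Cfsg.Agent.W3.F

open Cfsg.Agent.Cl QuadraticMap

/-- Vectors. -/
@[ext] structure V where
  n : ℕ
  lt : n < 64

instance : DecidableEq V := fun a b => decidable_of_iff (Nat.beq a.n b.n = true) (by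
  rw [Nat.beq_eq]; exact V.ext_iff.symm)

/-- The vector with a given code. -/
def vv (k : ℕ) : V := ⟨Nat.mod k 64, Nat.mod_lt _ (by decide)⟩

theorem vv_n (v : V) : vv v.n = v := V.ext (Nat.mod_eq_of_lt v.lt)

/-- A test on all vectors. -/
def allV (p : V → Bool) : Bool := Nat.rec true (fun n ih => and (p (vv n)) ih) 64

theorem allV_iff {p : V → Bool} : allV p = true ↔ ∀ v, p v = true := by
  have k : ∀ m : ℕ, (Nat.rec true (fun n ih => and (p (vv n)) ih) m : Bool) = true ↔ ∀ n < m, p (vv n) = true := by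
    intro m
    induction m with
    | zero => simp
    | succ m ih => simp only [Bool.and_eq_true, ih, Nat.forall_lt_succ_right, and_comm]
  exact (k 64).trans ⟨fun h v => vv_n v ▸ h _ v.lt, fun h _ _ => h _⟩

instance V.decAll (P : V → Prop) [DecidablePred P] : Decidable (∀ v, P v) :=
  decidable_of_iff (allV (fun v => decide (P v)) = true) (by simp [allV_iff])

instance V.decEx (P : V → Prop) [DecidablePred P] : Decidable (∃ v, P v) :=
  decidable_of_iff (allV (fun v => !decide (P v)) = false) (by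
    rw [← Bool.not_eq_true, allV_iff]; simp)

theorem xor_lt (a b : V) : Nat.xor a.n b.n < 64 := Nat.xor_lt_two_pow (n := 6) a.lt b.lt

instance : Add V := ⟨fun a b => ⟨Nat.xor a.n b.n, xor_lt a b⟩⟩
instance : Zero V := ⟨⟨0, by decide⟩⟩
instance : Neg V := ⟨id⟩

theorem add_n (a b : V) : (a + b).n = a.n ^^^ b.n := rfl

instance : AddCommGroup V :=
  { AddGroup.ofLeftAxioms (fun a b c => V.ext (Nat.xor_assoc _ _ _)) (fun a => V.ext (Nat.zero_xor _))
      (fun a => V.ext (Nat.xor_self _)) with
    add_comm := fun a b => V.ext (Nat.xor_comm _ _) }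

@[simp] theorem add_self (a : V) : a + a = 0 := V.ext (Nat.xor_self _)
@[simp] theorem add_add_self (a b : V) : a + (a + b) = b := by rw [← add_assoc, add_self, zero_add]
@[simp] theorem add_add_self' (a b : V) : a + b + b = a := by rw [add_assoc, add_self, add_zero]
@[simp] theorem neg_eq (a : V) : -a = a := rfl
theorem add_eq_zero_iff {a b : V} : a + b = 0 ↔ a = b := add_eq_zero_iff_eq_neg
theorem add_eq_iff {a b c : V} : a + b = c ↔ a = c + b := ⟨fun h => by simp [← h], fun h => by simp [h]⟩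

instance : Fintype V := Fintype.ofEquiv (Fin 64) ⟨fun i => ⟨i.1, i.2⟩, fun v => ⟨v.n, v.lt⟩, fun _ => rfl, fun _ => rfl⟩

theorem card_V : Nat.card V = 64 := by rw [Nat.card_eq_fintype_card, Fintype.ofEquiv_card, Fintype.card_fin]

instance : Module (ZMod 2) V := AddCommGroup.zmodModule fun x => by rw [two_nsmul, add_self]

/-- Bit `n` of `m`. -/
def bt (m n : ℕ) : Bool := Nat.beq (Nat.mod (Nat.shiftRight m n) 2) 1

/-- The table of the quadratic form; `true` is the minus type. -/
def qT (τ : Bool) : ℕ := cond τ 11039261667840776944 10825627592855169536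

/-- The table of the polar form. -/
def fT : ℕ := 0x69969669966969969696696969699696966996696996699669696969969696969669699696696996696996966969969669966996699669969696969696969696c33c3cc33cc3c33c3c3cc3c3c3c33c3c3cc33cc3c33cc33cc3c3c3c33c3c3c3c3cc3c33c3cc3c33cc3c33c3cc3c33c3cc33cc33cc33cc33c3c3c3c3c3c3c3c3ca55a5aa55aa5a55a5a5aa5a5a5a55a5a5aa55aa5a55aa55aa5a5a5a55a5a5a5a5aa5a55a5aa5a55aa5a55a5aa5a55a5aa55aa55aa55aa55a5a5a5a5a5a5a5a5a0ff0f00ff00f0ff0f0f00f0f0f0ff0f0f00ff00f0ff00ff00f0f0f0ff0f0f0f0f00f0ff0f00f0ff00f0ff0f00f0ff0f00ff00ff00ff00ff0f0f0f0f0f0f0f0f09966669966999966666699999999666666996699996699669999999966666666669999666699996699996666999966669966996699669966666666666666666633cccc33cc3333cccccc33333333cccccc33cc3333cc33cc33333333cccccccccc3333cccc3333cc3333cccc3333cccc33cc33cc33cc33cccccccccccccccccc55aaaa55aa5555aaaaaa55555555aaaaaa55aa5555aa55aa55555555aaaaaaaaaa5555aaaa5555aa5555aaaa5555aaaa55aa55aa55aa55aaaaaaaaaaaaaaaaaaff0000ff00ffff000000ffffffff000000ff00ffff00ff00ffffffff0000000000ffff0000ffff00ffff0000ffff0000ff00ff00ff00ff000000000000000000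

/-- The quadratic form. -/
def qb (τ : Bool) (v : V) : Bool := bt (qT τ) v.n

/-- The polar form. -/
def fb (u v : V) : Bool := bt fT (Nat.add (Nat.mul 64 u.n) v.n)

/-- Multiplication by a scalar. -/
def sm (b : Bool) (v : V) : V := cond b v 0

@[simp] theorem sm_true (v : V) : sm true v = v := rfl
@[simp] theorem sm_false (v : V) : sm false v = 0 := rfl

theorem qb_add : ∀ (τ : Bool) (u v : V), qb τ (u + v) = (qb τ u ^^ qb τ v ^^ fb u v) := by decide +kernel
theorem fb_comm : ∀ u v : V, fb u v = fb v u := by decide +kernel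
@[simp] theorem fb_self : ∀ u : V, fb u u = false := by decide +kernel
@[simp] theorem fb_zero : ∀ u : V, fb u 0 = false := by decide +kernel
@[simp] theorem zero_fb : ∀ u : V, fb 0 u = false := by decide +kernel
@[simp] theorem qb_zero : ∀ τ, qb τ 0 = false := by decide +kernel
theorem fb_add_left : ∀ u v w : V, fb (u + v) w = (fb u w ^^ fb v w) := by decide +kernel
theorem fb_add_right (u v w : V) : fb w (u + v) = (fb w u ^^ fb w v) := by
  rw [fb_comm, fb_add_left, fb_comm u, fb_comm v]
theorem fb_sm_left (b : Bool) (u v : V) : fb (sm b u) v = (b && fb u v) := by cases b <;> simp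
theorem fb_sm_right (b : Bool) (u v : V) : fb u (sm b v) = (b && fb u v) := by cases b <;> simp
theorem qb_sm (τ b : Bool) (u : V) : qb τ (sm b u) = (b && qb τ u) := by cases b <;> simp
theorem sm_xor (b c : Bool) (u : V) : sm (b ^^ c) u = sm b u + sm c u := by cases b <;> cases c <;> simp
theorem exists_fb : ∀ v : V, v ≠ 0 → ∃ u, fb u v = true := by decide +kernel
theorem eq_of_fb {u v : V} (h : ∀ w, fb w u = fb w v) : u = v := by
  by_contra k
  obtain ⟨w, e⟩ := exists_fb (u + v) (mt add_eq_zero_iff.1 k)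
  simp [fb_add_right, h] at e

/-- Eichler transformations. -/
def rho (τ : Bool) (x w v : V) : V := v + sm (fb v x) w + sm (fb v w ^^ (qb τ w && fb v x)) x

/-- Reflections (the identity for a singular vector). -/
def rf (τ : Bool) (a v : V) : V := v + sm (qb τ a && fb v a) a

/-- Isometries. -/
structure Iso (τ : Bool) (T : V → V) : Prop where
  add : ∀ u v, T (u + v) = T u + T v
  q : ∀ v, qb τ (T v) = qb τ v

namespace Iso

variable {τ : Bool} {S T : V → V}

theorem zero (h : Iso τ T) : T 0 = 0 := by simpa using h.add 0 0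

theorem f (h : Iso τ T) (u v : V) : fb (T u) (T v) = fb u v := by
  have := h.q (u + v)
  rw [h.add, qb_add, qb_add, h.q, h.q] at this
  simpa using this

theorem inj (h : Iso τ T) : Function.Injective T := fun u v e => eq_of_fb fun w => by rw [← h.f w, e, h.f]

theorem surj (h : Iso τ T) : Function.Surjective T := Finite.surjective_of_injective h.inj

theorem eq_zero (h : Iso τ T) {v : V} : T v = 0 ↔ v = 0 := by rw [← h.inj.eq_iff (a := v), h.zero]

theorem sm (h : Iso τ T) (b : Bool) (v : V) : T (sm b v) = sm b (T v) := by cases b <;> simp [h.zero]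

theorem rho (h : Iso τ T) (x w v : V) : T (rho τ x w v) = rho τ (T x) (T w) (T v) := by
  simp only [F.rho, h.add, h.sm, h.f, h.q]

theorem comp (h : Iso τ S) (k : Iso τ T) : Iso τ (S ∘ T) :=
  ⟨fun u v => by simp only [Function.comp, k.add, h.add], fun v => by simp only [Function.comp, k.q, h.q]⟩

theorem id : Iso τ id := ⟨fun _ _ => rfl, fun _ => rfl⟩

end Iso

theorem iso_rf (τ : Bool) (a : V) : Iso τ (rf τ a) := by
  refine ⟨fun u v => ?_, fun v => ?_⟩
  · simp only [rf, fb_add_left, Bool.and_xor_distrib_left, sm_xor]; abel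
  · simp only [rf, qb_add, qb_sm, fb_sm_right]
    cases qb τ a <;> cases fb v a <;> simp

/-- A product of reflections. -/
def wd (τ : Bool) (l : List ℕ) (v : V) : V := List.rec v (fun a _ ih => rf τ (vv a) ih) l

theorem iso_wd (τ : Bool) (l : List ℕ) : Iso τ (wd τ l) := by
  induction l with
  | nil => exact Iso.id
  | cons a l ih => exact (iso_rf τ (vv a)).comp ih

/-- The linear map with given images of the basis. -/
def lin (a b c d e f v : V) : V :=
  sm (bt v.n 0) a + sm (bt v.n 1) b + sm (bt v.n 2) c + sm (bt v.n 3) d + sm (bt v.n 4) e + sm (bt v.n 5) f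

theorem Iso.eq_lin {τ : Bool} {T : V → V} (h : Iso τ T) (v : V) :
    T v = lin (T (vv 1)) (T (vv 2)) (T (vv 4)) (T (vv 8)) (T (vv 16)) (T (vv 32)) v := by
  have : ∀ v, v = lin (vv 1) (vv 2) (vv 4) (vv 8) (vv 16) (vv 32) v := by decide +kernel
  conv_lhs => rw [this v]
  simp only [lin, h.add, h.sm]

/-! ### Comparison with the standard forms -/

/-- A bit as a scalar. -/
def b2 (b : Bool) : ZMod 2 := cond b 1 0

theorem b2_xor : ∀ b c, b2 (b ^^ c) = b2 b + b2 c := by decide
theorem b2_and : ∀ b c, b2 (b && c) = b2 b * b2 c := by decide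
theorem b2_eq_zero : ∀ {b}, b2 b = 0 ↔ b = false := by decide
theorem b2_inj : ∀ {b c}, b2 b = b2 c ↔ b = c := by decide
theorem b2_smul (b : Bool) (v : V) : b2 b • v = sm b v := by cases b <;> simp [b2]

theorem polar_qb (τ : Bool) (u v : V) : polar (fun v => b2 (qb τ v)) u v = b2 (fb u v) := by
  rw [polar, qb_add]
  cases qb τ u <;> cases qb τ v <;> cases fb u v <;> decide

/-- The quadratic form, bundled. -/
def qf (τ : Bool) : QuadraticForm (ZMod 2) V := QuadraticMap.ofPolar (fun v => b2 (qb τ v))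
  (fun c u => by rcases quad_zmod2_cases c with rfl | rfl <;> simp [b2])
  (fun u v w => by simp only [polar_qb, fb_add_left, b2_xor])
  (fun c u v => by rcases quad_zmod2_cases c with rfl | rfl <;> simp [polar_qb, b2_eq_zero])

theorem qf_apply (τ : Bool) (v : V) : qf τ v = b2 (qb τ v) := rfl

theorem polar_qf (τ : Bool) (u v : V) : polar (qf τ) u v = b2 (fb u v) := polar_qb τ u v

theorem qf_nondeg (τ : Bool) : (polarBilin (qf τ)).Nondegenerate :=
  (quad_nondeg_iff _).2 fun u hu => eq_of_fb fun w => by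
    rw [fb_zero, fb_comm, ← b2_eq_zero, ← polar_qf τ, hu]

theorem exists_equiv {ι : Type} [Fintype ι] [DecidableEq ι] (hι : Fintype.card ι = 6) (p : ι → ℕ)
    (h1 : ∀ u v : V, ∀ i, bt (u + v).n (p i) = (bt u.n (p i) ^^ bt v.n (p i)))
    (h2 : ∀ v : V, (∀ i, bt v.n (p i) = false) → v = 0) :
    ∃ e : V ≃ₗ[ZMod 2] (ι → ZMod 2), ∀ v i, e v i = b2 (bt v.n (p i)) := by
  let d : V →+ (ι → ZMod 2) := AddMonoidHom.mk' (fun v i => b2 (bt v.n (p i))) fun u v => by
    funext i; rw [h1, b2_xor]; rfl
  have k : Function.Injective d := (injective_iff_map_eq_zero d).2 fun v hv => h2 v fun i => b2_eq_zero.1 (congrFun hv i)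
  exact ⟨LinearEquiv.ofBijective (d.toZModLinearMap 2) ((Nat.bijective_iff_injective_and_card _).2 ⟨k, by
    rw [card_V, Nat.card_fun, Nat.card_zmod, Nat.card_eq_fintype_card, hι]; rfl⟩), fun _ _ => rfl⟩

theorem equiv_plus : ∃ e : V ≃ₗ[ZMod 2] (Fin 3 ⊕ Fin 3 → ZMod 2), ∀ v, quad_plus 3 (ZMod 2) (e v) = qf false v := by
  obtain ⟨e, he⟩ := exists_equiv (ι := Fin 3 ⊕ Fin 3) rfl (Sum.elim (·.1) (·.1 + 3)) (by decide +kernel)
    (by decide +kernel)
  refine ⟨e, fun v => ?_⟩
  simp only [quad_plus_apply, he, Fin.sum_univ_three, qf_apply]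
  revert v; decide +kernel

theorem equiv_minus : ∃ e : V ≃ₗ[ZMod 2] ((Fin 2 ⊕ Fin 2) ⊕ Fin 2 → ZMod 2),
    ∀ v, quad_minus 2 (ZMod 2) 1 1 (e v) = qf true v := by
  obtain ⟨e, he⟩ := exists_equiv (ι := (Fin 2 ⊕ Fin 2) ⊕ Fin 2) rfl
    (Sum.elim (Sum.elim (·.1) (·.1 + 3)) (3 * ·.1 + 2)) (by decide +kernel) (by decide +kernel)
  refine ⟨e, fun v => ?_⟩
  simp only [quad_minus_apply, he, Fin.sum_univ_two, qf_apply]
  revert v; decide +kernel

end Cfsg.Agent.W3.F
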