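import Mathlib
import Cfsg.Agent.W3.FG
import Cfsg.Agent.W3.FT
import Cfsg.Agent.GT.Cores

/-! The case where `Q ∩ Q_t` has order four: all noncentral involutions of `Q` are conjugate to `z`, and `Q` is not of
plus type. -/

set_option autoImplicit false
set_option maxRecDepth 100000
set_option linter.unusedSectionVars false
set_option linter.unusedVariables false
set_option synthInstance.maxSize 100000
set_option synthInstance.maxHeartbeats 1000000

namespace Cfsg.Agent.W3.F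

open Cfsg.Agent.Spor Cfsg.Agent.Spor.TT Cfsg.Agent.LX Cfsg.Agent.Gr6 Subgroup

theorem exists_mid : ∀ τ x, qb τ x = false → x ≠ 0 → ∀ s, qb τ s = false → s ≠ 0 →
    ∃ y, qb τ y = false ∧ fb y x = true ∧ fb s y = true := by decide +kernel

theorem exists_hyp : ∀ x, qb false x = false → x ≠ 0 → ∀ y, qb false y = false → fb y x = false → y ∉ els x [] →
    ∃ u, fb u x = false ∧ fb u y = false ∧ ∀ w, qb false w = true → fb x w = false → fb y w = false →
      fb u w = true := by decide +kernel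

theorem no_three : ∀ d, (∀ v, rho false (vv 1) d v = rho false (vv 1) (vv 2) (rho false (vv 1) (vv 36) v)) →
    (∀ v, rho false (vv 2) d v = rho false (vv 1) (vv 2) (rho false (vv 2) (vv 36) v)) →
    ¬ ∀ v, rho false (vv 3) d v = rho false (vv 1) (vv 2) (rho false (vv 3) (vv 36) v) := by decide +kernel

variable {G : Type*} [Group G] [Finite G] {z a a' b m r s t : G} {τ : Bool} {π : G → V} {S T : V → V} {v w w' x : V}

theorem fb_of_rho (hx : x ≠ 0) (hv : fb v x = false) (h : rho τ x w v = v) : fb v w = false := by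
  rw [rho_of_perp hv, add_eq_left] at h
  revert h
  cases fb v w <;> simp [hx]

theorem L0.symm (h : L0 z t) (c : Commute z t) : L0 t z := fun e h1 h2 => by
  rcases h e h2 h1 with k | k | k | k
  exacts [.inl k, .inr (.inr (.inl k)), .inr (.inl k), .inr (.inr (.inr (k.trans c.eq)))]

/-- All noncentral involutions of `Q` are conjugate to `z`, with intersections of order four. -/
def AL (z : G) : Prop := ∀ t ∈ QQ z, t * t = 1 → t ≠ 1 → t ≠ z → IsConj z t ∧ L0 z t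

theorem AL.of_isConj (h : AL z) (ha : IsConj z a) : AL a := by
  obtain ⟨g, rfl⟩ := exists_cj ha
  intro t h1 h2 h3 h4
  obtain ⟨t, rfl⟩ : ∃ s, t = cj g s := ⟨_, (cj_cj_inv g t).symm⟩
  obtain ⟨k1, k2⟩ := h t (cj_mem_QQ.1 h1) (by rwa [← cj_mul, cj_eq_iff, cj_one_right] at h2)
    (fun e => h3 (by rw [e, cj_one_right])) fun e => h4 (by rw [e])
  exact ⟨(LX.isConj_cj g z).symm.trans (k1.trans (LX.isConj_cj g t)), k2.conj g⟩

namespace Co

variable (h : Co z τ π)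
include h

theorem pt_of_al (al : AL z) (ht : t ∈ QQ z) (h1 : qb τ (π t) = false) (h2 : π t ≠ 0) : Pt z t ∧ L0 z t := by
  have k := mt (h.ker t ht).2 h2
  have k1 := al t ht ((h.sq t ht).2 h1) (fun e => k (.inl e)) fun e => k (.inr e)
  exact ⟨⟨k1.1, ht, fun e => k (.inr e)⟩, k1.2⟩

theorem wt_of_l0 (p : Pt z t) (l : L0 z t) (hw : fb w (π t) = false) : ∃ a ∈ QQ t, Ac z π a (rho τ (π t) w) := by
  obtain ⟨u, h1, h2⟩ := h.et_add_wt p hw
  rcases els_nil.1 ((h.l0_iff p).1 l _ h2) with e | e <;> rw [add_eq_iff] at e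
  · exact (e ▸ (zero_add u).symm ▸ h1 :).2
  · exact (e ▸ (h.sub_wt p).add _ _ (h.sub_wt p).self h1 :).2

theorem al [IsSimpleGroup G] (p : Pt z t) (l : L0 z t) : AL z := by
  let O : V → Prop := fun x => ∃ t, Pt z t ∧ L0 z t ∧ π t = x
  have hO : ∀ {g T}, Ac z π g T → ∀ x, O x → O (T x) := fun c x ⟨t, p, l, e⟩ =>
    ⟨_, p.cj h.bg c.1, l.cj c.1, e ▸ c.2 t p.mem⟩
  have hρ : ∀ x w, O x → fb w x = false → ∃ g, Ac z π g (rho τ x w) := fun x w ⟨t, p, l, e⟩ hw =>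
    let ⟨a, _, c⟩ := h.wt_of_l0 p l (e ▸ hw); ⟨a, e ▸ c⟩
  have hq : ∀ x, O x → qb τ x = false ∧ x ≠ 0 := fun x ⟨t, p, l, e⟩ => e ▸ ⟨h.pt_q p, h.pt_ne p⟩
  obtain ⟨x, y, hx, hy, k⟩ : ∃ x y, O x ∧ O y ∧ fb y x = true := by
    by_contra! k
    simp only [ne_eq, Bool.not_eq_true] at k
    obtain ⟨g, T, c, e⟩ := h.nofix (h.pt_ne p)
    have o1 : O (π t) := ⟨t, p, l, rfl⟩
    have o2 := hO c _ o1
    let P : V → Prop := fun u => ∀ x, O x → fb u x = false
    have P1 : ∀ u v, P u → P v → P (u + v) := fun u v a b x o => by rw [fb_add_left, a x o, b x o]; rfl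
    have P2 : ∀ b u, O u → P (sm b u) := fun b u a x o => by rw [fb_sm_left, k x u o a, Bool.and_false]
    have N1 : ∀ {g T}, Ac z π g T → (∀ u, P u → T u = u) → (∀ v, P (v + T v)) → ∀ v, T (T v) = v := fun c a b v => by
      have := a _ (b v)
      rwa [(h.iso c).add, add_comm v, add_right_inj] at this
    let N : Subgroup G :=
      { carrier := {g | ∃ T, Ac z π g T ∧ (∀ u, P u → T u = u) ∧ ∀ v, P (v + T v)}
        one_mem' := ⟨_, h.ac_mem (one_mem _), fun _ _ => rfl, fun v x _ => by simp⟩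
        mul_mem' := fun ⟨S, a, b, c⟩ ⟨T, d, e, f⟩ => ⟨_, h.ac_mul a d, fun u k => by rw [Function.comp, e u k, b u k],
          fun v => by simpa [add_assoc] using P1 _ _ (f v) (c (T v))⟩
        inv_mem' := fun ⟨T, a, b, c⟩ => ⟨T, h.ac_inv a (N1 a b c), b, c⟩ }
    have N2 : N ≤ QQ z := GT.le_pCoreOf (fun g ⟨_, c, _⟩ => Spor.mem_centralizer_singleton.2 c.1)
      (le_normalizer_iff.2 fun g hg n ⟨T, a, b, c⟩ => by
        obtain ⟨R, d⟩ := h.exists_ac (Spor.mem_centralizer_singleton.1 hg)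
        obtain ⟨R', d'⟩ := h.exists_ac d.1.inv_right
        have i := h.iso d
        have e : ∀ v, R (R' v) = v := h.ac_ext (T := id) (h.ac_mul d d') (by simpa using h.ac_mem (one_mem _))
        refine ⟨_, h.ac_mul (h.ac_mul d a) d', fun u k => ?_, fun v x o => ?_⟩
        · rw [Function.comp, Function.comp, b _ fun x o => by rw [← i.f, e, k _ (hO d x o)], e]
        · rw [Function.comp, Function.comp, ← e x, ← e v, ← i.add, i.f, i.inj (e (R (R' v))), c _ _ (hO d' x o)])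
      fun ⟨n, T, a, b, c⟩ => ⟨3, Subtype.ext (by
        have := h.bg.es.sq _ (h.mem_of_ac (h.ac_mul a a) (N1 a b c))
        rw [show 2 ^ 3 = 2 * 2 * 2 from rfl, coe_pow, pow_mul, pow_mul, pow_two, pow_two, pow_two]
        rcases this with e | e <;> simp [e, h.zz])⟩
    obtain ⟨a, d⟩ := hρ _ _ o1 (k _ _ o1 o2)
    exact ((h.mem_iff_of_rho p d).1 (N2 ⟨_, d, fun u k => by simp [rho, k _ o1, k _ o2], fun v => by
      simpa [rho, add_assoc] using P1 _ _ (P2 _ _ o2) (P2 _ _ o1)⟩)).elim (hq _ o2).2 e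
  have mv : ∀ x y s, O x → O y → fb y x = true → fb s x = true → qb τ s = false → O s := fun x y s a b c d e => by
    obtain ⟨g, k⟩ := hρ x (y + s) a (by rw [fb_add_left, c, d]; rfl)
    simpa [rho, c, fb_add_right, qb_add, e, (hq y b).1] using hO k y b
  intro s hs h1 h2 h3
  have h4 := (h.sq s hs).1 h1
  obtain ⟨u, u1, u2, u3⟩ := exists_mid τ x (hq x hx).1 (hq x hx).2 _ h4 fun e => ((h.ker s hs).1 e).elim h2 h3
  obtain ⟨t, p, l, e⟩ := mv u x _ (mv x y u hx hy k u2 u1) hx ((fb_comm _ _).trans u2) u3 h4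
  obtain ⟨q, hq, rfl⟩ := h.pt_eq p hs e.symm
  exact ⟨p.conj.trans (LX.isConj_cj q t), l.cj (h.bg.comm hq)⟩

theorem partner (p : Pt z t) (l : L0 z t) (hm : m ∈ QQ z) (hv : fb (π m) (π t) = false) (hb : b ∈ QQ t)
    (e : cj b z = z * t) : m⁻¹ * cj b m ∈ QQ t ∧ Ac z π (m⁻¹ * cj b m) (rho τ (π t) (π m)) := by
  obtain ⟨q, hq, k⟩ := h.exists_q p
  obtain ⟨h1, h2, h3⟩ := h.exists_partner p hm hv hb e hq k
  refine ⟨h1, (h.ac_rho p h1 h2 hq k).congr fun v => ?_⟩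
  rcases els_nil.1 ((h.l0_iff p).1 l _ h3) with e | e <;> rw [add_comm, add_eq_iff] at e <;> rw [e]
  · rw [zero_add]
  · rw [← rho_rho (fb_self _) hv, rho_self (h.pt_q p)]

/-- The correspondence between `C_{Q_t}(z)` and `C_Q(t)` preserves squares. -/
theorem l0_sq (p : Pt z t) (l : L0 z t) (ha : a ∈ QQ t) (hw : fb w (π t) = false) (c : Ac z π a (rho τ (π t) w)) :
    a * a = 1 ↔ qb τ w = false := by
  obtain ⟨m, hm, rfl⟩ := h.surj w
  obtain ⟨b, hb, e⟩ := h.exists_b p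
  obtain ⟨h1, c'⟩ := h.partner p l hm hw hb e
  have h2 : cj b (m * m) = m * cj (m⁻¹ * cj b m) m * (m⁻¹ * cj b m * (m⁻¹ * cj b m)) := by simp [cj, mul_assoc]
  generalize m⁻¹ * cj b m = d at h1 c' h2
  have bt := h.bgt p
  have h3 : a * a = d * d := by
    have k1 := h.mul_inv_mem c c' fun _ => rfl
    have k2 := mul_mem ha (inv_mem h1)
    have k3 : Commute (a * d⁻¹) d := by
      rcases l _ k1 k2 with e | e | e | e <;> rw [e]
      exacts [Commute.one_left _, c'.1, bt.comm h1, c'.1.mul_left (bt.comm h1)]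
    rw [← inv_mul_cancel_right a d, k3.symm.mul_mul_mul_comm, (h.pair p).E_sq ⟨k1, k2⟩, one_mul]
  have h4 : m * (z * m) = z * (m * m) := by rw [← mul_assoc, ← (h.bg.comm hm).eq, mul_assoc]
  have h5 : z * t ≠ 1 := fun k => p.ne (by rw [← h.zz, mul_right_inj] at k; exact k)
  rw [h3, ← h.sq m hm]
  rcases (h.fix_iff c' hm).1 (by simp [rho, hw]) with k | k <;> rw [k] at h2 <;>
    rcases h.bg.es.sq m hm with k1 | k1 <;> rcases bt.es.sq d h1 with k2 | k2 <;>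
    simp only [h4, k1, k2, e, cj_one_right, h.zz, mul_one, one_mul, h.bg.ne_one, bt.ne_one] at h2 ⊢
  exacts [absurd h2.symm bt.ne_one, absurd (mul_eq_left.1 h2) bt.ne_one, absurd h2.symm h5, absurd h2 h5]

theorem l0_comm (p : Pt z t) (l : L0 z t) (ha : a ∈ QQ t) (ha' : a' ∈ QQ t) (hw : fb w (π t) = false)
    (hw' : fb w' (π t) = false) (c : Ac z π a (rho τ (π t) w)) (c' : Ac z π a' (rho τ (π t) w')) :
    Commute a a' ↔ fb w w' = false := by
  obtain ⟨π', h'⟩ := h.of_isConj p.conj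
  have k : ∀ {a w}, a ∈ QQ t → fb w (π t) = false → Ac z π a (rho τ (π t) w) → qb τ (π' a) = qb τ w := fun ha hw c => by
    rw [← Bool.not_inj_iff, Bool.eq_iff_iff, Bool.not_eq_true', Bool.not_eq_true', ← h'.sq _ ha, h.l0_sq p l ha hw c]
  have := k (mul_mem ha ha') ((sub_perp _).add _ _ hw hw') ((h.ac_mul c c').congr (rho_rho hw hw'))
  rw [h'.mul a ha a' ha', qb_add, qb_add, k ha hw c, k ha' hw' c', Bool.xor_right_inj] at this
  rw [h'.comm a ha a' ha', this]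

theorem l0_ne (p : Pt z t) (l : L0 z t) (ha : a ∈ QQ t) (hz : Commute z a) (hr : r ∈ QQ z) (ht : Commute t r) :
    nm a r ≠ z := fun e => by
  obtain ⟨π', h'⟩ := h.of_isConj p.conj
  obtain ⟨w, hw, c⟩ := h.exists_wt p ha hz
  obtain ⟨b, hb, e'⟩ := h.exists_b p
  have hv := (h.comm r hr t p.mem).1 ht.symm
  obtain ⟨h1, c'⟩ := h.partner p l hr hv hb e'
  have h2 : cj a r = z * r := by rw [← h.bg.es.z_inv, ← e]; simp [nm, cj, mul_assoc]
  have h3 := cj_of_commute ((h.l0_comm p l ha h1 hw hv c c').2 ((fb_comm _ _).trans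
    (fb_of_rho (h.pt_ne p) hv ((h.fix_iff c hr).2 (.inr h2)))))
  have h4 : cj (cj b⁻¹ a) r = z * r := by
    rcases (h'.fix_iff (h'.ac_mem (inv_mem hb)) ha).1 rfl with k | k <;> rw [k]
    · exact h2
    · rw [← cj_cj, h2, cj_mul, cj_of_commute ht, cj_of_commute (h.bg.comm p.mem).symm]
  have h5 := congrArg (cj b) h4
  rw [cj_dist, cj_cj_inv, cj_mul, e', ← mul_inv_cancel_left r (cj b r), cj_mul, h3, h2, ← mul_assoc (z * t), mul_left_inj,
    mul_left_inj, left_eq_mul] at h5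
  exact h'.bg.ne_one h5

theorem l0_nm (p : Pt z t) (l : L0 z t) (ha : a ∈ QQ t) (hz : Commute z a) (hr : r ∈ QQ z) (ht : Commute t r) :
    Commute a r ∨ nm a r = z * t := by
  obtain ⟨π', h'⟩ := h.of_isConj p.conj
  rcases l _ (nm_mem h.bg hz hr) (h.nm_mem_t p ha ht) with e | e | e | e
  · exact .inl (nm_eq_one_iff.1 e)
  · exact absurd e (h.l0_ne p l ha hz hr ht)
  · exact absurd (by rw [← h'.bg.es.z_inv, ← e]; simp [nm, cj, mul_assoc])
      (h'.l0_ne (h.symm p) (l.symm (h.bg.comm p.mem)) hr ht ha hz)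
  · exact .inr e

theorem l0_fix (p : Pt z t) (l : L0 z t) (ha : a ∈ QQ t) (c : Ac z π a T) (hr : r ∈ QQ z)
    (ht : fb (π r) (π t) = false) (k : T (π r) = π r) : Commute a r :=
  (h.l0_nm p l ha c.1 hr ((h.comm r hr t p.mem).2 ht).symm).resolve_right fun e => h.pt_ne p (by
    rw [← h.z_mul p.mem, ← e, h.pi_nm c hr, k, add_self])

end Co

theorem Co.plus (h : Co z false π) (al : AL z) : False := by
  obtain ⟨t1, m1, e1⟩ := h.surj (vv 1)
  obtain ⟨t2, m2, e2⟩ := h.surj (vv 2)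
  obtain ⟨p1, l1⟩ := h.pt_of_al al m1 (e1 ▸ rfl) (e1 ▸ by decide)
  obtain ⟨p2, l2⟩ := h.pt_of_al al m2 (e2 ▸ rfl) (e2 ▸ by decide)
  obtain ⟨a, a1, a2, c⟩ : ∃ a ∈ QQ t1, a ∈ QQ t2 ∧ Ac z π a (rho false (vv 1) (vv 2)) := by
    obtain ⟨a, ha, c⟩ := h.wt_of_l0 p1 l1 (w := vv 2) (e1 ▸ rfl)
    obtain ⟨b, hb, d⟩ := h.wt_of_l0 p2 l2 (w := vv 1) (e2 ▸ rfl)
    rw [e1] at c
    rw [e2] at d
    replace d := d.congr (T := rho false (vv 1) (vv 2)) (by decide +kernel)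
    have k := h.mul_inv_mem d c fun _ => rfl
    have k1 : ∀ v, fb v (vv 1) = false → fb v (vv 2) = false → fb (π (b * a⁻¹)) v = false := fun v v1 v2 => by
      obtain ⟨r, hr, rfl⟩ := h.surj v
      have : rho false (vv 1) (vv 2) (π r) = π r := by simp [rho, v1, v2]
      exact (h.comm _ k r hr).1 ((h.l0_fix p2 l2 hb d hr (e2 ▸ v2) this).mul_left
        (h.l0_fix p1 l1 ha c hr (e1 ▸ v1) this).inv_left)
    have k2 : ∀ v, fb v (vv 1) = false → fb v (vv 2) = false → fb v (vv 4) = false → fb v (vv 32) = false →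
      v ∈ els (vv 1) [] ∨ vv 2 + v ∈ els (vv 1) [] := by decide +kernel
    have k3 : ∀ {x}, x ∈ QQ z → π x ∈ els (vv 1) [] → x ∈ QQ t1 := fun hx e =>
      h.mem_of_et p1 hx ((h.sub_et p1).els (l := []) (by simp) _ (e1 ▸ e))
    rcases k2 _ (k1 _ rfl rfl) (k1 _ rfl rfl) (k1 _ rfl rfl) (k1 _ rfl rfl) with e | e
    · exact ⟨b, by simpa using mul_mem (k3 k e) ha, hb, d⟩
    · exact ⟨t2 * b, by simpa [mul_assoc] using mul_mem (k3 (mul_mem m2 k) (by rwa [h.mul _ m2 _ k, e2])) ha,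
        mul_mem (h.bgt p2).z_mem hb, (h.ac_mul (h.ac_mem m2) d :)⟩
  have a3 : a ∉ QQ z := fun k => absurd (h.ac_ext c (h.ac_mem k) (vv 8)) (by decide +kernel)
  have a4 : IsConj t1 a := (al.of_isConj p1.conj a a1 ((h.l0_sq p1 l1 a1 (w := vv 2) (e1 ▸ rfl) (e1 ▸ c)).2 rfl)
    (fun e => a3 (e ▸ one_mem _)) fun e => a3 (e ▸ m1)).1
  have a5 := p1.conj.trans a4
  obtain ⟨π', h'⟩ := h.of_isConj a5
  have al' := al.of_isConj a5
  have k1 : ∀ {s}, Pt z s → s ∈ QQ a → Pt a s ∧ L0 a s := fun p k =>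
    have e : _ ≠ a := fun e => a3 (e ▸ p.mem)
    ⟨⟨a5.symm.trans p.conj, k, e⟩, (al' _ k (h.bgt p).sq (h.bgt p).ne_one e).2⟩
  have k2 : ∀ {s}, Pt z s → a ∈ QQ s → s ∈ QQ a := fun p k =>
    let ⟨_, k'⟩ := h.of_isConj p.conj; k'.mem_symm (p.conj.symm.trans a5) k
  have n1 := k2 p1 a1
  have n2 := k2 p2 a2
  obtain ⟨q1, o1⟩ := k1 p1 n1
  obtain ⟨q2, o2⟩ := k1 p2 n2
  have c12 : Commute t2 t1 := (h.comm _ m2 _ m1).2 (by rw [e1, e2]; rfl)
  have ne : t2 ≠ t1 := fun e => absurd (e1 ▸ e ▸ e2) (by decide)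
  obtain ⟨u, u1, u2, u3⟩ := exists_hyp _ (h'.pt_q q1) (h'.pt_ne q1) _ (h'.pt_q q2) ((h'.comm _ n2 _ n1).1 c12) (by
    rw [← h'.v4_iff q1 n2]
    rintro (e | e | e | e)
    exacts [h'.bgt q2 |>.ne_one e, q2.ne e, ne e, a3 (by simpa [e] using mul_mem m2 (inv_mem m1))])
  obtain ⟨b, hb, rfl⟩ := h'.surj u
  have b1 := ((h'.comm _ hb _ n1).2 u1).symm
  have b2 := ((h'.comm _ hb _ n2).2 u2).symm
  have b3 : Commute z b := (h'.l0_nm q1 o1 (h.symm p1).mem c.1.symm hb b1).elim id fun e =>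
    (h'.l0_nm q2 o2 (h.symm p2).mem c.1.symm hb b2).resolve_right fun e' => ne (mul_left_cancel (e'.symm.trans e))
  obtain ⟨B, cb⟩ := h.exists_ac b3
  have key : ∀ s ∈ QQ z, s ∈ QQ a → Commute s b → Commute s t1 → Commute s t2 → ∀ x y, π s = x → qb false x = false →
      x ≠ 0 → fb (vv 36) x = false → fb y x = false → fb y (vv 36) = false →
      (∀ v, rho false (vv 1) (vv 2) v = rho false x y v) →
      ∀ v, rho false x (B (vv 36)) v = rho false (vv 1) (vv 2) (rho false x (vv 36) v) := by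
    rintro s s1 s2 s3 s4 s5 _ y rfl x1 x2 x3 y1 y2 y3
    obtain ⟨p, l⟩ := h.pt_of_al al s1 x1 x2
    obtain ⟨q, o⟩ := k1 p s2
    obtain ⟨d, hd, cd⟩ := h.wt_of_l0 p l x3
    have d1 := (h.l0_comm p l (h'.symm q).mem hd y1 x3 (c.congr y3) cd).2 y2
    obtain ⟨w, hw, cd'⟩ := h'.exists_wt q hd d1
    have d2 : ∀ t ∈ QQ z, t ∈ QQ a → Commute s t → fb (π t) (vv 36) = false → fb (π' t) w = false := fun t t1 t2 t3 t4 => by
      have t5 := (h.comm _ t1 _ s1).1 t3.symm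
      exact fb_of_rho (h'.pt_ne q) ((h'.comm _ t2 _ s2).1 t3.symm) (h'.fix_of_comm cd' t2
        (h.l0_fix p l hd cd t1 t5 (by simp [rho, t4, t5])))
    have d3 := u3 w (by simpa using mt (h'.l0_sq q o hd hw cd').2 (mt (h.l0_sq p l hd x3 cd).1 (by decide)))
      (d2 t1 m1 n1 s4 (e1 ▸ rfl)) (d2 t2 m2 n2 s5 (e2 ▸ rfl))
    have d4 := (h'.l0_nm q o hd d1 hb s3).resolve_left fun e => by
      simpa [d3] using fb_of_rho (h'.pt_ne q) ((h'.comm _ hb _ s2).1 s3.symm) (h'.fix_of_comm cd' hb e)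
    have d5 : cj b d = a * s * d := by rw [← d4]; simp [nm, cj, mul_assoc]
    exact h.ac_ext (h.ac_cj cb cd fun v => by rw [(h.iso cb).rho, h.fix_of_comm cb s1 s3.symm])
      (d5 ▸ h.ac_mul (h.ac_mul c (h.ac_mem s1)) cd)
  exact no_three _ (key t1 m1 n1 b1 (Commute.refl _) c12.symm _ (vv 2) e1 rfl (by decide) rfl rfl rfl fun _ => rfl)
    (key t2 m2 n2 b2 c12 (Commute.refl _) _ (vv 1) e2 rfl (by decide) rfl rfl rfl (by decide +kernel))
    (key _ (mul_mem m1 m2) (mul_mem n1 n2) (b1.mul_left b2) ((Commute.refl _).mul_left c12)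
      (c12.symm.mul_left (Commute.refl _)) _ (vv 1) (by rw [h.mul _ m1 _ m2, e1, e2]; rfl) rfl (by decide) rfl rfl rfl
      (by decide +kernel))

end Cfsg.Agent.W3.F
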